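import Mathlib.GroupTheory.Index
import Mathlib.Data.Finite.Perm
import Mathlib.GroupTheory.Sylow
import Mathlib.GroupTheory.GroupAction.Quotient
import Mathlib.GroupTheory.SpecificGroups.Cyclic
import Mathlib.Algebra.CharP.Basic
import Cfsg.Agent.CharOrbit.Basic

/-!
# Finite linear groups with bounded Sylow `p`-subgroups: elementary tools

Counting lemmas for abelian groups of bounded exponent, the subgroup of scalars, and the passage
through an invariant subspace.
-/

set_option autoImplicit false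
set_option linter.unusedSectionVars false
set_option linter.style.haveILetI false

namespace CfsgLib.BrauerFeit

open Subgroup

universe u v

/-- The `p`-part of the order is at most `p ^ m`. -/
def PBound (p m : ℕ) (G : Type u) [Group G] : Prop :=
  ∀ k : ℕ, p ^ k ∣ Nat.card G → k ≤ m

/-- An abelian subgroup of index at most `B`. -/
def HasAbelian (B : ℕ) (G : Type u) [Group G] : Prop :=
  ∃ A : Subgroup G, (∀ a ∈ A, ∀ b ∈ A, a * b = b * a) ∧ A.index ≤ B

variable {G : Type u} [Group G] [Finite G] {p m : ℕ}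

theorem PBound.of_dvd {H : Type*} [Group H] (h : PBound p m G)
    (hd : Nat.card H ∣ Nat.card G) : PBound p m H := fun _ hk => h _ (hk.trans hd)

theorem PBound.subgroup (h : PBound p m G) (H : Subgroup G) : PBound p m H :=
  h.of_dvd (Subgroup.card_subgroup_dvd_card H)

theorem PBound.quotient (h : PBound p m G) (H : Subgroup G) [H.Normal] : PBound p m (G ⧸ H) :=
  h.of_dvd (Subgroup.card_quotient_dvd_card H)

/-- A `p`-group dividing the order has order dividing `p ^ m`. -/
theorem PBound.card_dvd [hp : Fact p.Prime] (h : PBound p m G) {P : Type*} [Group P]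
    [Finite P] (hP : IsPGroup p P) (hd : Nat.card P ∣ Nat.card G) : Nat.card P ∣ p ^ m := by
  obtain ⟨k, hk⟩ := IsPGroup.iff_card.1 hP
  rw [hk] at hd ⊢
  exact pow_dvd_pow p (h k hd)

/-- The core of an abelian subgroup of index at most `B`. -/
theorem HasAbelian.normal {B : ℕ} (h : HasAbelian B G) :
    ∃ A : Subgroup G, A.Normal ∧ (∀ a ∈ A, ∀ b ∈ A, a * b = b * a) ∧ A.index ≤ B.factorial := by
  obtain ⟨A, hA, hi⟩ := h
  refine ⟨A.normalCore, inferInstance,
    fun a ha b hb => hA a (A.normalCore_le ha) b (A.normalCore_le hb), ?_⟩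
  rw [normalCore_eq_ker, index_ker]
  refine (Subgroup.card_le_card_group _).trans ?_
  rw [Nat.card_perm]
  exact Nat.factorial_le hi

section Linear

variable {K : Type v} [Field K] {V : Type v} [AddCommGroup V] [Module K V]
  (ρ : G →* Module.End K V)

/-- The elements acting as scalars. -/
def scalars : Subgroup G where
  carrier := {g | ∃ c : K, ρ g = c • 1}
  one_mem' := ⟨1, by rw [map_one, one_smul]⟩
  mul_mem' := by
    rintro a b ⟨c, hc⟩ ⟨d, hd⟩
    exact ⟨c * d, by rw [map_mul, hc, hd, smul_mul_smul_comm, one_mul]⟩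
  inv_mem' := by
    rintro a ⟨c, hc⟩
    rcases eq_or_ne c 0 with rfl | hc0
    · have h1 : (1 : Module.End K V) = 0 := by
        rw [← map_one ρ, ← inv_mul_cancel a, map_mul, hc, zero_smul, mul_zero]
      exact ⟨0, by rw [← mul_one (ρ a⁻¹), h1, mul_zero, zero_smul]⟩
    refine ⟨c⁻¹, ?_⟩
    have h1 : ρ a⁻¹ * ρ a = 1 := by rw [← map_mul, inv_mul_cancel, map_one]
    rw [hc, mul_smul_comm, mul_one] at h1
    rw [← h1, smul_smul, inv_mul_cancel₀ hc0, one_smul]

theorem mem_scalars {g : G} : g ∈ scalars ρ ↔ ∃ c : K, ρ g = c • 1 := Iff.rfl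

variable {ρ}

theorem commute_of_mem_scalars (hρ : Function.Injective ρ) {z : G} (hz : z ∈ scalars ρ) (g : G) :
    Commute z g := by
  obtain ⟨c, hc⟩ := hz
  refine hρ ?_
  rw [map_mul, map_mul, hc, smul_mul_assoc, one_mul, mul_smul_comm, mul_one]

theorem scalars_normal (hρ : Function.Injective ρ) : (scalars ρ).Normal :=
  ⟨fun z hz g => by
    rwa [← (commute_of_mem_scalars hρ hz g).eq, mul_inv_cancel_right]⟩

/-- An element with a power of `p`-power exponent equal to `1` and scalar is `1`. -/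
theorem not_dvd_card_scalars [hp : Fact p.Prime] [CharP K p] (hρ : Function.Injective ρ) :
    ¬ p ∣ Nat.card (scalars ρ) := by
  intro hd
  obtain ⟨z, hz⟩ := exists_prime_orderOf_dvd_card' p hd
  obtain ⟨c, hc⟩ := z.2
  have hpow : (z : G) ^ p = 1 := by
    rw [← Subgroup.coe_pow, ← hz, pow_orderOf_eq_one, Subgroup.coe_one]
  have h1 : ρ ((z : G) ^ p) = c ^ p • 1 := by rw [map_pow, hc, _root_.smul_pow, one_pow]
  rw [hpow, map_one] at h1
  refine hp.out.ne_one ?_
  rw [← hz, orderOf_eq_one_iff, ← Subtype.coe_inj, Subgroup.coe_one]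
  refine hρ ?_
  rw [hc, map_one]
  rcases subsingleton_or_nontrivial V with hV | ⟨⟨v, w, hvw⟩⟩
  · exact Subsingleton.elim _ _
  have h2 : (1 - c ^ p) • (v - w) = 0 := by
    have := congrArg (fun f : Module.End K V => f (v - w)) h1
    simp only [Module.End.one_apply, LinearMap.smul_apply] at this
    rw [sub_smul, one_smul, ← this, sub_self]
  have h3 : c ^ p = 1 := (sub_eq_zero.1 ((smul_eq_zero.1 h2).resolve_right
    (sub_ne_zero.2 hvw))).symm
  have h4 : (c - 1) ^ p = 0 := by rw [sub_pow_char, h3, one_pow, sub_self]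
  rw [sub_eq_zero.1 (eq_zero_of_pow_eq_zero h4), one_smul]

/-- Commuting elements of order prime to `p` and exponent `e` are at most `e ^ n`. -/
theorem card_le_pow_finrank [hp : Fact p.Prime] [CharP K p] [IsAlgClosed K] [FiniteDimensional K V]
    (hρ : Function.Injective ρ) (H : Subgroup G) (hH : ∀ a ∈ H, ∀ b ∈ H, a * b = b * a)
    (hpH : ¬ p ∣ Nat.card H) {e : ℕ} (he : 0 < e) (hexp : ∀ h ∈ H, h ^ e = 1) :
    Nat.card H ≤ e ^ Module.finrank K V := by
  classical
  letI : CommGroup H :=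
    { (inferInstance : Group H) with mul_comm := fun a b => Subtype.ext (hH a a.2 b b.2) }
  let σ : H →* Module.End K V := ρ.comp H.subtype
  let R : Finset K := (Polynomial.X ^ e - 1 : Polynomial K).roots.toFinset
  have hR : R.card ≤ e := by
    refine (Multiset.toFinset_card_le _).trans ((Polynomial.card_roots' _).trans ?_)
    rw [← map_one Polynomial.C, Polynomial.natDegree_X_pow_sub_C]
  have hmem : ∀ χ, CharOrbit.IsWeight σ χ → ∀ h, χ h ∈ R := fun χ hχ h => by
    have h1 : χ h ^ e = 1 := by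
      let f : H →* K := ⟨⟨χ, CharOrbit.map_one_of_isWeight hχ⟩, CharOrbit.map_mul_of_isWeight hχ⟩
      have : h ^ e = 1 := Subtype.ext (by rw [Subgroup.coe_pow, hexp h h.2, Subgroup.coe_one])
      calc χ h ^ e = f h ^ e := rfl
        _ = f (h ^ e) := (map_pow f h e).symm
        _ = 1 := by rw [this, map_one]
    have hne : (Polynomial.X ^ e - 1 : Polynomial K) ≠ 0 := by
      rw [← map_one Polynomial.C]
      exact Polynomial.X_pow_sub_C_ne_zero he 1
    simp [R, Polynomial.mem_roots hne, h1]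
  have hfin : {χ : H → K | CharOrbit.IsWeight σ χ}.Finite :=
    (Set.Finite.pi' fun _ : H => R.finite_toSet).subset fun χ hχ h => hmem χ hχ h
  let W := hfin.toFinset
  have hW : W.card ≤ Module.finrank K V :=
    CharOrbit.card_weights_le σ W fun χ hχ => hfin.mem_toFinset.1 hχ
  let Φ : H → (W → R) := fun h χ => ⟨χ.1 h, hmem _ (hfin.mem_toFinset.1 χ.2) h⟩
  have hne0 : (Nat.card H : K) ≠ 0 := by rwa [Ne, CharP.cast_eq_zero_iff K p]
  have hΦ : Function.Injective Φ := by
    intro a b hab
    by_contra hne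
    have h1 : σ (a⁻¹ * b) ≠ 1 := fun h => by
      rw [← map_one σ] at h
      exact hne (inv_mul_eq_one.1 (Subtype.ext (hρ h)))
    obtain ⟨χ, hχ, hχ1⟩ := CharOrbit.exists_weight hne0 σ h1
    have h2 : χ a = χ b := congrArg Subtype.val (congrFun hab ⟨χ, hfin.mem_toFinset.2 hχ⟩)
    exact hχ1 (by rw [CharOrbit.map_mul_of_isWeight hχ, ← h2, ← CharOrbit.map_mul_of_isWeight hχ,
      inv_mul_cancel, CharOrbit.map_one_of_isWeight hχ])
  refine (Nat.card_le_card_of_injective Φ hΦ).trans ?_
  rw [Nat.card_fun, Nat.card_eq_finsetCard, Nat.card_eq_finsetCard]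
  exact (Nat.pow_le_pow_left hR _).trans (Nat.pow_le_pow_right he hW)

/-- An abelian subgroup of exponent `e` has order at most `p ^ m * e ^ n`. -/
theorem card_le_of_exponent [hp : Fact p.Prime] [CharP K p] [IsAlgClosed K] [FiniteDimensional K V]
    (hρ : Function.Injective ρ) (hG : PBound p m G) (H : Subgroup G)
    (hH : ∀ a ∈ H, ∀ b ∈ H, a * b = b * a) {e : ℕ} (he : 0 < e) (hexp : ∀ h ∈ H, h ^ e = 1) :
    Nat.card H ≤ p ^ m * e ^ Module.finrank K V := by
  classical
  let f : H →* G :=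
    { toFun := fun h => (h : G) ^ p ^ m
      map_one' := by simp
      map_mul' := fun a b => by
        rw [Subgroup.coe_mul, (Commute.mul_pow (hH a a.2 b b.2))] }
  rw [← Subgroup.card_mul_index f.ker, index_ker]
  refine Nat.mul_le_mul ?_ ?_
  · refine Nat.le_of_dvd (pow_pos hp.out.pos m) ((hG.subgroup H).card_dvd ?_
      (Subgroup.card_subgroup_dvd_card _))
    intro x
    refine ⟨m, Subtype.ext (Subtype.ext ?_)⟩
    rw [Subgroup.coe_pow, Subgroup.coe_pow, Subgroup.coe_one, Subgroup.coe_one]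
    exact MonoidHom.mem_ker.1 x.2
  · refine card_le_pow_finrank hρ f.range ?_ ?_ he ?_
    · rintro _ ⟨a, rfl⟩ _ ⟨b, rfl⟩
      exact ((Commute.pow_pow (hH a a.2 b b.2) _ _)).eq
    · intro hd
      obtain ⟨⟨_, a, rfl⟩, hz⟩ := exists_prime_orderOf_dvd_card' p hd
      have h1 : orderOf ((a : G) ^ p ^ m) = p := (Subgroup.orderOf_coe _).trans hz
      have ha0 : orderOf (a : G) ≠ 0 := (orderOf_pos _).ne'
      obtain ⟨k, r, hr, hkr⟩ := Nat.exists_eq_pow_mul_and_not_dvd ha0 p hp.out.ne_one
      have hk : k ≤ m := hG k ((Dvd.intro r hkr.symm).trans (orderOf_dvd_natCard _))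
      refine hr (h1 ▸ orderOf_dvd_of_pow_eq_one ?_)
      rw [← pow_mul]
      refine orderOf_dvd_iff_pow_eq_one.1 ?_
      rw [hkr]
      exact Nat.mul_dvd_mul_right (pow_dvd_pow p hk) r
    · rintro _ ⟨a, rfl⟩
      show ((a : G) ^ p ^ m) ^ e = 1
      rw [← pow_mul, mul_comm, pow_mul, hexp a a.2, one_pow]

/-- If the `E`-th powers of an abelian subgroup lie in `T`, the index of `T` in it is bounded. -/
theorem relIndex_le_of_pow_mem [hp : Fact p.Prime] [CharP K p] [IsAlgClosed K]
    [FiniteDimensional K V] (hρ : Function.Injective ρ) (hG : PBound p m G) (A T : Subgroup G)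
    (hA : ∀ a ∈ A, ∀ b ∈ A, a * b = b * a) {E : ℕ} (hE : 0 < E) (hpow : ∀ a ∈ A, a ^ E ∈ T) :
    T.relIndex A ≤ p ^ m * E ^ Module.finrank K V := by
  classical
  let f : A →* G :=
    { toFun := fun h => (h : G) ^ E
      map_one' := by simp
      map_mul' := fun a b => by
        rw [Subgroup.coe_mul, (Commute.mul_pow (hA a a.2 b b.2))] }
  have hrange : f.range ≤ T ⊓ A := by
    rintro _ ⟨a, rfl⟩
    exact ⟨hpow a a.2, pow_mem a.2 E⟩
  have hker : Nat.card f.ker ≤ p ^ m * E ^ Module.finrank K V := by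
    have hcard : Nat.card (f.ker.map A.subtype) = Nat.card f.ker :=
      Subgroup.card_map_of_injective A.subtype_injective
    rw [← hcard]
    refine card_le_of_exponent hρ hG _ ?_ hE ?_
    · rintro _ ⟨a, -, rfl⟩ _ ⟨b, -, rfl⟩
      exact hA a a.2 b b.2
    · rintro _ ⟨a, ha, rfl⟩
      exact ha
  refine le_trans ?_ hker
  have h1 : Nat.card (T ⊓ A : Subgroup G) * T.relIndex A = Nat.card f.ker * Nat.card f.range := by
    rw [← inf_relIndex_right, ← index_ker, Subgroup.card_mul_index]
    have h2 := Subgroup.relIndex_mul_relIndex ⊥ (T ⊓ A) A bot_le inf_le_right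
    rw [relIndex_bot_left, relIndex_bot_left] at h2
    exact h2
  have h2 : Nat.card f.range ≤ Nat.card (T ⊓ A : Subgroup G) :=
    Nat.le_of_dvd Nat.card_pos (Subgroup.card_dvd_of_le hrange)
  have h3 := Nat.mul_le_mul_left (Nat.card f.ker) h2
  rw [← h1, mul_comm (Nat.card f.ker)] at h3
  exact Nat.le_of_mul_le_mul_left h3 Nat.card_pos

/-- Two quotients with abelian subgroups of bounded index and a common `p`-kernel. -/
theorem hasAbelian_of_two_quotients [hp : Fact p.Prime] (hG : PBound p m G)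
    (N₁ N₂ : Subgroup G) [N₁.Normal] [N₂.Normal] (hN : IsPGroup p (N₁ ⊓ N₂ : Subgroup G))
    {B : ℕ} (h₁ : HasAbelian B (G ⧸ N₁)) (h₂ : HasAbelian B (G ⧸ N₂)) :
    HasAbelian (p ^ m * ((p ^ m).factorial * (B * B))) G := by
  classical
  obtain ⟨A₁, hA₁, hi₁⟩ := h₁
  obtain ⟨A₂, hA₂, hi₂⟩ := h₂
  set C := N₁ ⊓ N₂ with hC
  set A := (A₁.comap (QuotientGroup.mk' N₁) ⊓ A₂.comap (QuotientGroup.mk' N₂)) ⊓
    Subgroup.centralizer (C : Set G) with hA
  have hCdvd : Nat.card C ∣ p ^ m := hG.card_dvd hN (Subgroup.card_subgroup_dvd_card _)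
  have hcidx : (Subgroup.centralizer (C : Set G)).index ≤ (p ^ m).factorial := by
    have hker : (MulAut.conjNormal (H := C)).ker ≤ Subgroup.centralizer (C : Set G) := fun g hg => by
      rw [Subgroup.mem_centralizer_iff]
      intro c hc
      have h := congrArg Subtype.val (DFunLike.congr_fun (MonoidHom.mem_ker.1 hg) ⟨c, hc⟩)
      rw [MulAut.conjNormal_apply, MulAut.one_apply] at h
      exact (mul_inv_eq_iff_eq_mul.1 h).symm
    refine (Nat.le_of_dvd (Nat.pos_of_ne_zero Subgroup.index_ne_zero_of_finite)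
      (Subgroup.index_dvd_of_le hker)).trans ?_
    rw [index_ker]
    refine (Subgroup.card_le_card_group _).trans ?_
    have hinj : Function.Injective fun e : MulAut C => e.toEquiv := fun a b h => by
      ext x; exact congrArg Subtype.val (DFunLike.congr_fun h x)
    refine (Nat.card_le_card_of_injective _ hinj).trans ?_
    rw [Nat.card_perm]
    exact Nat.factorial_le (Nat.le_of_dvd (pow_pos hp.out.pos m) hCdvd)
  have hAidx : A.index ≤ (p ^ m).factorial * (B * B) := by
    refine (index_inf_le).trans ?_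
    rw [mul_comm (p ^ m).factorial]
    refine Nat.mul_le_mul ((index_inf_le).trans (Nat.mul_le_mul ?_ ?_)) hcidx
    · rwa [index_comap_of_surjective _ (QuotientGroup.mk'_surjective _)]
    · rwa [index_comap_of_surjective _ (QuotientGroup.mk'_surjective _)]
  -- commutators of `A` lie in `C`, centralized by `A`
  have hcomm : ∀ a ∈ A, ∀ b ∈ A, a * b * a⁻¹ * b⁻¹ ∈ C := by
    rintro a ⟨⟨ha₁, ha₂⟩, -⟩ b ⟨⟨hb₁, hb₂⟩, -⟩
    constructor
    · show a * b * a⁻¹ * b⁻¹ ∈ N₁
      rw [← QuotientGroup.eq_one_iff, ← QuotientGroup.mk'_apply, map_mul, map_mul, map_mul, map_inv,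
        map_inv, hA₁ _ ha₁ _ hb₁, mul_inv_cancel_right, mul_inv_cancel]
    · show a * b * a⁻¹ * b⁻¹ ∈ N₂
      rw [← QuotientGroup.eq_one_iff, ← QuotientGroup.mk'_apply, map_mul, map_mul, map_mul, map_inv,
        map_inv, hA₂ _ ha₂ _ hb₂, mul_inv_cancel_right, mul_inv_cancel]
  have hpow : ∀ a : A, a ^ p ^ m ∈ Subgroup.center A := by
    intro a
    rw [Subgroup.mem_center_iff]
    intro b
    apply Subtype.ext
    rw [Subgroup.coe_mul, Subgroup.coe_mul, Subgroup.coe_pow]
    obtain ⟨c, hcdef⟩ : ∃ c : G, c = (a : G) * b * (a : G)⁻¹ * (b : G)⁻¹ := ⟨_, rfl⟩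
    have hcC : c ∈ C := hcdef ▸ hcomm a a.2 b b.2
    have hab : (a : G) * b = c * b * a := by rw [hcdef]; group
    have hac : Commute (a : G) c := (Subgroup.mem_centralizer_iff.1 a.2.2 c hcC).symm
    have hk : ∀ k : ℕ, (a : G) ^ k * b = c ^ k * b * (a : G) ^ k := by
      intro k
      induction k with
      | zero => simp
      | succ k ih =>
        rw [pow_succ', mul_assoc, ih, ← mul_assoc, ← mul_assoc, (hac.pow_right k).eq,
          mul_assoc (c ^ k) (a : G) (b : G), hab, pow_succ c k, mul_assoc, mul_assoc, mul_assoc,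
          mul_assoc, mul_assoc]
    have hcq : c ^ p ^ m = 1 := orderOf_dvd_iff_pow_eq_one.1
      ((Subgroup.orderOf_dvd_natCard C hcC).trans hCdvd)
    rw [hk, hcq, one_mul]
  have hQp : IsPGroup p (A ⧸ Subgroup.center A) := fun x => by
    induction x using QuotientGroup.induction_on with
    | H a => exact ⟨m, by rw [← QuotientGroup.mk_pow, QuotientGroup.eq_one_iff]; exact hpow a⟩
  refine ⟨(Subgroup.center A).map A.subtype, ?_, ?_⟩
  · rintro _ ⟨a, ha, rfl⟩ _ ⟨b, -, rfl⟩
    exact congrArg Subtype.val (Subgroup.mem_center_iff.1 ha b).symm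
  · rw [index_map_subtype]
    refine Nat.mul_le_mul ?_ hAidx
    exact Nat.le_of_dvd (pow_pos hp.out.pos m) ((hG.subgroup A).card_dvd hQp
      (Subgroup.card_quotient_dvd_card _))

end Linear

end CfsgLib.BrauerFeit
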