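import Cfsg.Agent.BrauerFeit.Stable
import Mathlib.LinearAlgebra.Charpoly.Basic
import Mathlib.LinearAlgebra.Eigenspace.Minpoly
import Mathlib.LinearAlgebra.Eigenspace.Charpoly
import Mathlib.Data.Rat.Cast.CharZero
import Mathlib.Algebra.BigOperators.Field
import Mathlib.Tactic.FieldSimp
import Mathlib.Tactic.Linarith
import Mathlib.Tactic.Ring

/-!
# The class equation

The elements commuting with a stable element are partitioned by the tori, the remaining ones have
bounded centralizer modulo scalars.  The resulting equation between unit fractions forces either a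
bounded index of the scalars or a normal torus.
-/

set_option autoImplicit false
set_option linter.unusedSectionVars false
set_option linter.style.haveILetI false

namespace CfsgLib.BrauerFeit

open Subgroup

universe u v

/-- The threshold in the lemma on unit fractions. -/
def fracBound : ℕ → ℕ → ℕ
  | 0, L => L
  | k + 1, L => max L (fracBound k (L * (L * (k + 1)).factorial))

theorem le_fracBound : ∀ k L : ℕ, L ≤ fracBound k L
  | 0, _ => le_rfl
  | _ + 1, _ => le_max_left _ _

/-- If `c / L + 1 / g` is a sum of at most `k` unit fractions of denominator at most `g`, then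
`g` is bounded or is one of the denominators. -/
theorem unit_fraction {ι : Type*} :
    ∀ (k L : ℕ) (s : Finset ι) (b : ι → ℕ) (g : ℕ) (c : ℤ), s.card ≤ k → 0 < L → 0 < g →
      (∀ i ∈ s, 0 < b i ∧ b i ≤ g) → (c : ℚ) / L + 1 / g = ∑ i ∈ s, (1 : ℚ) / b i →
      g ≤ fracBound k L ∨ ∃ i ∈ s, b i = g := by
  classical
  intro k
  induction k with
  | zero =>
    intro L s b g c hk hL hg hb heq
    rw [Finset.card_eq_zero.1 (Nat.le_zero.1 hk), Finset.sum_empty] at heq
    left
    have hc : c < 0 := by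
      by_contra hc
      push Not at hc
      have h1 : (0 : ℚ) ≤ (c : ℚ) / L := div_nonneg (by exact_mod_cast hc) (by positivity)
      have h2 : (0 : ℚ) < 1 / g := by positivity
      linarith
    have hL' : (0 : ℚ) < L := by exact_mod_cast hL
    have hg' : (0 : ℚ) < g := by exact_mod_cast hg
    have h1 : (L : ℚ) = -(c : ℚ) * g := by field_simp at heq; linarith
    have h2 : (1 : ℚ) ≤ -(c : ℚ) := by exact_mod_cast (by omega : (1 : ℤ) ≤ -c)
    have h3 : (g : ℚ) ≤ L := by nlinarith
    exact_mod_cast h3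
  | succ k ih =>
    intro L s b g c hk hL hg hb heq
    have hL' : (0 : ℚ) < L := by exact_mod_cast hL
    have hg' : (0 : ℚ) < g := by exact_mod_cast hg
    have hpos : ∀ i ∈ s, (0 : ℚ) < 1 / b i := fun i hi => by
      have := (hb i hi).1
      positivity
    rcases lt_trichotomy c 0 with hc | hc | hc
    · left
      refine le_trans ?_ (le_fracBound _ _)
      have h0 : (0 : ℚ) ≤ ∑ i ∈ s, (1 : ℚ) / b i := Finset.sum_nonneg fun i hi => (hpos i hi).le
      have h2 : (c : ℚ) ≤ -1 := by exact_mod_cast (by omega : c ≤ -1)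
      have h1 : (c : ℚ) / L ≤ -1 / L := div_le_div_of_nonneg_right h2 hL'.le
      have h3 : (1 : ℚ) / L ≤ 1 / g := by rw [neg_div] at h1; linarith
      exact_mod_cast (one_div_le_one_div hL' hg').1 h3
    · subst hc
      right
      rw [Int.cast_zero, zero_div, zero_add] at heq
      rcases s.eq_empty_or_nonempty with rfl | ⟨i, hi⟩
      · rw [Finset.sum_empty] at heq
        exact absurd heq (by positivity)
      refine ⟨i, hi, le_antisymm (hb i hi).2 ?_⟩
      have h1 : (1 : ℚ) / b i ≤ ∑ j ∈ s, (1 : ℚ) / b j :=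
        Finset.single_le_sum (f := fun j => (1 : ℚ) / b j) (fun j hj => (hpos j hj).le) hi
      rw [← heq] at h1
      exact_mod_cast (one_div_le_one_div (by exact_mod_cast (hb i hi).1) hg').1 h1
    · have h1 : (1 : ℚ) / L < ∑ i ∈ s, (1 : ℚ) / b i := by
        rw [← heq]
        have h2 : (1 : ℚ) ≤ c := by exact_mod_cast (by omega : (1 : ℤ) ≤ c)
        have h3 : (1 : ℚ) / L ≤ (c : ℚ) / L := div_le_div_of_nonneg_right h2 hL'.le
        have h4 : (0 : ℚ) < 1 / g := by positivity
        linarith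
      obtain ⟨i, hi, hib⟩ : ∃ i ∈ s, b i ≤ L * (k + 1) := by
        by_contra hcon
        push Not at hcon
        have h2 : ∑ i ∈ s, (1 : ℚ) / b i ≤ s.card • (1 / ((L : ℚ) * (k + 1))) :=
          Finset.sum_le_card_nsmul _ _ _ fun i hi => by
            refine one_div_le_one_div_of_le (by positivity) ?_
            exact_mod_cast (hcon i hi).le
        rw [nsmul_eq_mul] at h2
        have h3 : (s.card : ℚ) ≤ k + 1 := by exact_mod_cast hk
        have h4 : (s.card : ℚ) * (1 / ((L : ℚ) * (k + 1))) ≤ 1 / L := by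
          rw [mul_one_div, div_le_div_iff₀ (by positivity) hL']
          nlinarith
        linarith
      set F := (L * (k + 1)).factorial
      obtain ⟨q, hq⟩ := Nat.dvd_factorial (hb i hi).1 hib
      have hF0 : 0 < F := Nat.factorial_pos _
      rcases ih (L * F) (s.erase i) b g (c * F - L * q)
          (by rw [Finset.card_erase_of_mem hi]; omega) (Nat.mul_pos hL hF0) hg
          (fun j hj => hb j (Finset.mem_of_mem_erase hj)) (by
            rw [← Finset.add_sum_erase s _ hi] at heq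
            have hbi : (b i : ℚ) ≠ 0 := by exact_mod_cast (hb i hi).1.ne'
            have hq' : (F : ℚ) = b i * q := by exact_mod_cast hq
            have hq0 : (q : ℚ) ≠ 0 := fun h => by rw [h, mul_zero] at hq'; exact hF0.ne' (by exact_mod_cast hq')
            have e1 : ((c * F - L * q : ℤ) : ℚ) / ((L * F : ℕ) : ℚ) = (c : ℚ) / L - 1 / b i := by
              push_cast
              rw [hq']
              field_simp
            rw [e1]
            linarith) with h | ⟨j, hj, hjg⟩
      · exact Or.inl (h.trans (le_max_right _ _))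
      · exact Or.inr ⟨j, Finset.mem_of_mem_erase hj, hjg⟩

/-- Summing an invariant function orbit by orbit. -/
theorem orbit_sum {H α : Type*} [Group H] [Fintype α] [MulAction H α]
    [Fintype (MulAction.orbitRel.Quotient H α)] (f : α → ℚ) (hf : ∀ (h : H) (a : α), f (h • a) = f a) :
    ∑ a, f a = ∑ ω : MulAction.orbitRel.Quotient H α,
      ((MulAction.stabilizer H ω.out).index : ℚ) * f ω.out := by
  classical
  rw [← Finset.sum_fiberwise (Finset.univ : Finset α)
    (fun a => (Quotient.mk'' a : MulAction.orbitRel.Quotient H α)) f]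
  refine Finset.sum_congr rfl fun ω _ => ?_
  have hiff : ∀ a : α, (Quotient.mk'' a : MulAction.orbitRel.Quotient H α) = ω ↔
      a ∈ MulAction.orbit H ω.out := fun a => by
    conv_lhs => rw [← Quotient.out_eq ω]
    exact Quotient.eq''
  have hconst : ∀ a ∈ (Finset.univ : Finset α).filter
      (fun a => (Quotient.mk'' a : MulAction.orbitRel.Quotient H α) = ω), f a = f ω.out := by
    intro a ha
    rw [Finset.mem_filter] at ha
    obtain ⟨h, rfl⟩ := (hiff a).1 ha.2
    exact hf h _
  rw [Finset.sum_congr rfl hconst, Finset.sum_const, nsmul_eq_mul, MulAction.index_stabilizer]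
  congr 2
  rw [Set.ncard_eq_toFinset_card']
  congr 1
  ext a
  simp [hiff]

/-- Lagrange relative to a larger subgroup. -/
theorem card_mul_relIndex {G : Type u} [Group G] {H L : Subgroup G} (h : H ≤ L) :
    Nat.card H * H.relIndex L = Nat.card L := by
  have := relIndex_mul_relIndex ⊥ H L bot_le h
  rwa [relIndex_bot_left, relIndex_bot_left] at this

/-- A union of left cosets. -/
theorem card_eq_mul_image {G : Type u} [Group G] (T : Subgroup G) (Y : Set G)
    (hY : ∀ x ∈ Y, ∀ t ∈ T, x * t ∈ Y) :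
    Nat.card Y = Nat.card T * Nat.card ((QuotientGroup.mk : G → G ⧸ T) '' Y) := by
  have h : (QuotientGroup.mk : G → G ⧸ T) ⁻¹' ((QuotientGroup.mk : G → G ⧸ T) '' Y) = Y := by
    refine le_antisymm ?_ (Set.subset_preimage_image _ _)
    rintro x ⟨y, hy, hxy⟩
    have := hY y hy _ (QuotientGroup.eq.1 hxy)
    rwa [mul_inv_cancel_left] at this
  conv_lhs => rw [← h]
  rw [Nat.card_congr (QuotientGroup.preimageMkEquivSubgroupProdSet _ _), Nat.card_prod]

variable {G : Type u} [Group G] [Finite G] {p m : ℕ} [hp : Fact p.Prime]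
  {K : Type v} [Field K] [CharP K p] [IsAlgClosed K] {V : Type v} [AddCommGroup V] [Module K V]
  [FiniteDimensional K V] {ρ : G →* Module.End K V} {B n : ℕ}

/-- The bound for `[C(x) : Z]` and for `[C(T) : T]`. -/
def localBound (p m B n : ℕ) : ℕ := B * (p ^ m * chainExp (powExp p m B) n ^ n)

theorem relIndex_small (hρ : Function.Injective ρ) (hA : CentBound ρ B) (hG : PBound p m G)
    (hn : Module.finrank K V ≤ n) {x : G} (hx : x ∉ scalars ρ)
    (hxs : ∀ s, Stable p ρ (powExp p m B) s → ¬ Commute x s) :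
    (scalars ρ).relIndex (centralizer ({x} : Set G)) ≤ localBound p m B n := by
  obtain ⟨A, hAle, hAc, hAi⟩ := hA x hx
  have hM0 : 0 < powExp p m B := powExp_pos B
  have hZA : (scalars ρ).relIndex A ≤ p ^ m * chainExp (powExp p m B) n ^ n := by
    refine (relIndex_le_of_pow_mem hρ hG A _ hAc (pow_pos hM0 _) fun a ha => ?_).trans
      (Nat.mul_le_mul_left _ (Nat.pow_le_pow_right (pow_pos hM0 _) hn))
    rcases pow_scalar_or_stable hρ hG (dvd_mul_left (p ^ m) _) hn a with h | ⟨i, -, -, hst⟩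
    · exact h
    · exact absurd
        ((Commute.pow_left (mem_centralizer_singleton_iff.1 (hAle ha)) _).symm) (hxs _ hst)
  have h1 : (scalars ρ ⊓ A).relIndex A * A.relIndex (centralizer ({x} : Set G)) =
      (scalars ρ ⊓ A).relIndex (centralizer ({x} : Set G)) :=
    relIndex_mul_relIndex _ _ _ inf_le_right hAle
  rw [inf_relIndex_right] at h1
  refine (Nat.le_of_dvd (Nat.pos_of_ne_zero ?_)
    (relIndex_dvd_of_le_left _ (inf_le_left : scalars ρ ⊓ A ≤ scalars ρ))).trans ?_
  · exact index_ne_zero_of_finite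
  · rw [← h1, mul_comm, localBound]
    exact Nat.mul_le_mul hAi hZA

/-- The elements fixing the coset of `x` modulo scalars. -/
theorem relIndex_coset_stabilizer (hρ : Function.Injective ρ) (hn : Module.finrank K V ≤ n)
    {x : G} (hx : x ∉ scalars ρ) (S : Subgroup G)
    (hS : ∀ g, g ∈ S ↔ x⁻¹ * g * x * g⁻¹ ∈ scalars ρ) :
    (centralizer ({x} : Set G)).relIndex S ≤ n := by
  classical
  let φ : S →* G :=
    { toFun := fun g => x⁻¹ * g * x * (g : G)⁻¹
      map_one' := by simp
      map_mul' := fun a b => by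
        have hz := commute_of_mem_scalars hρ ((hS b).1 b.2) ((a : G)⁻¹)
        calc x⁻¹ * ((a * b : S) : G) * x * ((a * b : S) : G)⁻¹
            = x⁻¹ * (a : G) * x * ((x⁻¹ * (b : G) * x * (b : G)⁻¹) * (a : G)⁻¹) := by
              rw [Subgroup.coe_mul]; group
          _ = x⁻¹ * (a : G) * x * ((a : G)⁻¹ * (x⁻¹ * (b : G) * x * (b : G)⁻¹)) := by rw [hz.eq]
          _ = x⁻¹ * (a : G) * x * (a : G)⁻¹ * (x⁻¹ * (b : G) * x * (b : G)⁻¹) := by group }
  have hker : φ.ker ≤ (centralizer ({x} : Set G)).subgroupOf S := fun g hg => by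
    have h : x⁻¹ * (g : G) * x * (g : G)⁻¹ = 1 := hg
    rw [mem_subgroupOf, mem_centralizer_singleton_iff]
    calc (g : G) * x = x * (x⁻¹ * (g : G) * x * (g : G)⁻¹) * (g : G) := by group
      _ = x * (g : G) := by rw [h, mul_one]
  refine (Nat.le_of_dvd (Nat.pos_of_ne_zero index_ne_zero_of_finite)
    (index_dvd_of_le hker)).trans ?_
  rw [index_ker]
  haveI : Nontrivial V := by
    rcases subsingleton_or_nontrivial V with hV | hV
    · exact absurd ⟨1, LinearMap.ext fun v => Subsingleton.elim _ _⟩ hx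
    · exact hV
  obtain ⟨b₀, hb₀⟩ := Module.End.exists_eigenvalue (ρ x)
  obtain ⟨v, hv⟩ := hb₀.exists_hasEigenvector
  let R : Finset K := (ρ x).charpoly.roots.toFinset
  have hR : R.card ≤ n :=
    ((Multiset.toFinset_card_le _).trans (Polynomial.card_roots' _)).trans
      (by rw [LinearMap.charpoly_natDegree]; exact hn)
  have key : ∀ z : φ.range, ∃ c : K, c ≠ 0 ∧ ρ z = c • 1 ∧ b₀ / c ∈ R := by
    rintro ⟨_, g, rfl⟩
    obtain ⟨c, hc⟩ := (hS g).1 g.2
    have hu : ρ (g : G)⁻¹ * ρ g = 1 := by rw [← map_mul, inv_mul_cancel, map_one]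
    have hw : ρ g v ≠ 0 := fun h => hv.2 (by
      have := LinearMap.congr_fun hu v
      rwa [Module.End.mul_apply, h, map_zero, Module.End.one_apply, eq_comm] at this)
    have hc0 : c ≠ 0 := by
      rintro rfl
      rw [zero_smul] at hc
      have h1 : (1 : Module.End K V) = 0 := by
        rw [← map_one ρ, ← inv_mul_cancel (x⁻¹ * (g : G) * x * (g : G)⁻¹), map_mul, hc, mul_zero]
      obtain ⟨w, hw0⟩ := exists_ne (0 : V)
      exact hw0 (by simpa using LinearMap.congr_fun h1 w)
    refine ⟨c, hc0, hc, ?_⟩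
    have hmul : (x * (x⁻¹ * (g : G) * x * (g : G)⁻¹)) * (g : G) = (g : G) * x := by group
    have h2 : c • (ρ x) (ρ g v) = b₀ • ρ g v := by
      have h3 := LinearMap.congr_fun (congrArg ρ hmul) v
      rw [map_mul, map_mul, map_mul ρ (g : G) x, hc, Module.End.mul_apply, Module.End.mul_apply,
        Module.End.mul_apply, LinearMap.smul_apply, Module.End.one_apply, map_smul,
        hv.apply_eq_smul, map_smul] at h3
      exact h3
    have h5 : (ρ x).HasEigenvalue (b₀ / c) :=
      Module.End.hasEigenvalue_of_hasEigenvector (x := ρ g v) ⟨Module.End.mem_eigenspace_iff.2 (by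
        rw [div_eq_inv_mul, mul_smul, ← h2, smul_smul, inv_mul_cancel₀ hc0, one_smul]), hw⟩
    rw [Multiset.mem_toFinset, Polynomial.mem_roots (LinearMap.charpoly_monic _).ne_zero]
    exact (Module.End.hasEigenvalue_iff_isRoot_charpoly _ _).1 h5
  choose c hc0 hc hcR using key
  have hinj : Function.Injective fun z => (⟨b₀ / c z, hcR z⟩ : R) := fun z z' h => by
    have h1 : b₀ / c z = b₀ / c z' := congrArg Subtype.val h
    have hb0 : b₀ ≠ 0 := by
      rintro rfl
      have h2 := hv.apply_eq_smul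
      rw [zero_smul] at h2
      apply hv.2
      have hu : ρ x⁻¹ * ρ x = 1 := by rw [← map_mul, inv_mul_cancel, map_one]
      have := LinearMap.congr_fun hu v
      rwa [Module.End.mul_apply, h2, map_zero, Module.End.one_apply, eq_comm] at this
    refine Subtype.ext (hρ ?_)
    rw [hc, hc]
    rw [div_eq_mul_inv, div_eq_mul_inv] at h1
    rw [inv_injective (mul_left_cancel₀ hb0 h1)]
  exact (Nat.card_le_card_of_injective _ hinj).trans (by rwa [Nat.card_eq_finsetCard])

/-- The bound on all denominators. -/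
def termBound (p m B n : ℕ) : ℕ := (n + n.factorial) * localBound p m B n

/-- The bound in the irreducible case. -/
def countBound (p m B n : ℕ) : ℕ :=
  max (fracBound (2 * termBound p m B n) (termBound p m B n).factorial) (termBound p m B n)

theorem hasAbelian_of_centBound (hρ : Function.Injective ρ) (hA : CentBound ρ B)
    (hG : PBound p m G) (hn : Module.finrank K V ≤ n) : HasAbelian (countBound p m B n) G := by
  classical
  haveI := scalars_normal hρ
  set M := powExp p m B with hM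
  set Z := scalars ρ with hZ
  set E₁ := termBound p m B n with hE₁
  set L := E₁.factorial with hLdef
  haveI := Fintype.ofFinite G
  have hz0 : 0 < Nat.card Z := Nat.card_pos
  -- the tori
  let 𝒯 := {T : Subgroup G // ∃ y, Stable p ρ M y ∧ T = torus p ρ M y}
  letI act : MulAction G 𝒯 :=
    { smul := fun g T => ⟨T.1.map (MulAut.conj g).toMonoidHom, by
        obtain ⟨y, hy, hT⟩ := T.2
        exact ⟨g * y * g⁻¹, hy.conj hρ g, by rw [hT, map_conj_torus hρ hA hy]⟩⟩
      one_smul := fun T => Subtype.ext (by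
        show T.1.map _ = T.1
        ext t; simp)
      mul_smul := fun a b T => Subtype.ext (by
        show T.1.map _ = (T.1.map _).map _
        rw [Subgroup.map_map]
        congr 1
        ext t; simp [mul_assoc]) }
  haveI : Fintype 𝒯 := Fintype.ofFinite _
  have hTmem : ∀ (T : 𝒯) s, Stable p ρ M s → s ∈ T.1 → T.1 = torus p ρ M s := by
    intro T s hs hsT
    obtain ⟨y, hy, hT⟩ := T.2
    rw [hT] at hsT ⊢
    exact (torus_eq hρ hA hs hy ((Stable.mem_torus_iff hρ hA hs hy).1 hsT)).symm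
  have hZT : ∀ T : 𝒯, Z ≤ T.1 := fun T => by
    obtain ⟨y, -, hT⟩ := T.2; rw [hT]; exact scalars_le_torus y
  let Y : 𝒯 → Set G := fun T => {x | ∃ s, Stable p ρ M s ∧ s ∈ T.1 ∧ Commute x s}
  let r : 𝒯 → ℕ := fun T => Nat.card ((QuotientGroup.mk : G → G ⧸ T.1) '' Y T)
  have hYcard : ∀ T : 𝒯, Nat.card (Y T) = Nat.card T.1 * r T := fun T =>
    card_eq_mul_image _ _ fun x ⟨s, hs, hsT, hxs⟩ t ht => ⟨s, hs, hsT, by
      obtain ⟨y, hy, hT⟩ := T.2
      exact hxs.mul_left (torus_commute hρ hA hy t (hT ▸ ht) s (hT ▸ hsT))⟩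
  have hr : ∀ T : 𝒯, 1 ≤ r T := fun T => by
    obtain ⟨y, hy, hT⟩ := T.2
    haveI : Nonempty ((QuotientGroup.mk : G → G ⧸ T.1) '' Y T) :=
      ⟨⟨_, y, ⟨y, hy, hT ▸ hy.mem_torus, Commute.refl y⟩, rfl⟩⟩
    exact Nat.card_pos
  have hZY : ∀ T : 𝒯, (Z : Set G) ⊆ Y T := fun T z hz => by
    obtain ⟨y, hy, hT⟩ := T.2
    exact ⟨y, hy, hT ▸ hy.mem_torus, commute_of_mem_scalars hρ hz y⟩
  let X : 𝒯 → Set G := fun T => Y T \ (Z : Set G)
  have hXcard : ∀ T : 𝒯, (Nat.card (X T) : ℚ) = (Nat.card T.1 : ℚ) * r T - Nat.card Z := by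
    intro T
    have h := Set.ncard_sdiff_add_ncard_of_subset (hZY T)
    simp only [← Nat.card_coe_set_eq] at h
    rw [hYcard T] at h
    rw [eq_sub_iff_add_eq]
    exact_mod_cast h
  -- the partition
  let big : Set G := {x | x ∉ Z ∧ ∃ s, Stable p ρ M s ∧ Commute x s}
  let small : Set G := {x | x ∉ Z ∧ ∀ s, Stable p ρ M s → ¬ Commute x s}
  have hbig : Nat.card big = ∑ T : 𝒯, Nat.card (X T) := by
    let f : (Σ T : 𝒯, X T) → big := fun a => ⟨a.2.1, a.2.2.2,
      let ⟨s, hs, _, hxs⟩ := a.2.2.1; ⟨s, hs, hxs⟩⟩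
    have hf : Function.Bijective f := by
      constructor
      · rintro ⟨T, x, ⟨s, hs, hsT, hxs⟩, hx⟩ ⟨T', x', ⟨s', hs', hsT', hxs'⟩, hx'⟩ h
        have he : x = x' := congrArg (fun a : big => a.1) h
        subst he
        have hTT : T = T' := Subtype.ext (by
          rw [hTmem T s hs hsT, hTmem T' s' hs' hsT']
          exact torus_eq hρ hA hs hs' (hA.commute_of_stable hx hs hs' hxs.symm hxs'.symm))
        subst hTT
        rfl
      · rintro ⟨x, hx, s, hs, hxs⟩
        exact ⟨⟨⟨torus p ρ M s, s, hs, rfl⟩, x, ⟨s, hs, hs.mem_torus, hxs⟩, hx⟩, rfl⟩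
    rw [← Nat.card_eq_of_bijective f hf, Nat.card_sigma]
  have htotal : Nat.card G = Nat.card Z + Nat.card big + Nat.card small := by
    have h1 : (Z : Set G) ∪ big ∪ small = Set.univ := by
      refine Set.eq_univ_of_forall fun x => ?_
      by_cases hx : x ∈ Z
      · exact Or.inl (Or.inl hx)
      by_cases hxs : ∃ s, Stable p ρ M s ∧ Commute x s
      · exact Or.inl (Or.inr ⟨hx, hxs⟩)
      · exact Or.inr ⟨hx, fun s hs hc => hxs ⟨s, hs, hc⟩⟩
    have hd1 : Disjoint (Z : Set G) big := Set.disjoint_left.2 fun x hx h => h.1 hx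
    have hd2 : Disjoint ((Z : Set G) ∪ big) small := Set.disjoint_left.2 fun x hx h => by
      rcases hx with hx | hx
      · exact h.1 hx
      · obtain ⟨s, hs, hc⟩ := hx.2
        exact h.2 s hs hc
    rw [← Nat.card_univ, ← h1, Nat.card_coe_set_eq, Set.ncard_union_eq hd2,
      Set.ncard_union_eq hd1]
    simp only [← Nat.card_coe_set_eq]
    rfl
  -- small classes as cosets of the scalars
  let Q := {q : G ⧸ Z // q ∈ (QuotientGroup.mk : G → G ⧸ Z) '' small}
  have hsmallinv : ∀ x ∈ small, ∀ t ∈ Z, x * t ∈ small := by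
    intro x hx t ht
    refine ⟨fun h => hx.1 ?_, fun s hs hc => hx.2 s hs ?_⟩
    · simpa using mul_mem h (inv_mem ht)
    · simpa using hc.mul_left (commute_of_mem_scalars hρ (inv_mem ht) s)
  have hsmall : Nat.card small = Nat.card Z * Nat.card Q := card_eq_mul_image _ _ hsmallinv
  letI actQ : MulAction G Q :=
    { smul := fun g q => ⟨(QuotientGroup.mk g : G ⧸ Z) * q.1 * (QuotientGroup.mk g : G ⧸ Z)⁻¹, by
        obtain ⟨x, hx, hxq⟩ := q.2
        refine ⟨g * x * g⁻¹, ⟨fun h => hx.1 ?_, fun s hs hc => hx.2 _ (hs.conj hρ g⁻¹) ?_⟩, ?_⟩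
        · simpa [mul_assoc] using (scalars_normal hρ).conj_mem _ h g⁻¹
        · simpa [mul_assoc] using hc.map (MulAut.conj g⁻¹).toMonoidHom
        · rw [← hxq]; simp⟩
      one_smul := fun q => Subtype.ext (by
        show (QuotientGroup.mk 1 : G ⧸ Z) * q.1 * (QuotientGroup.mk 1 : G ⧸ Z)⁻¹ = q.1
        rw [QuotientGroup.mk_one, one_mul, inv_one, mul_one])
      mul_smul := fun a b q => Subtype.ext (by
        show (QuotientGroup.mk (a * b) : G ⧸ Z) * q.1 * (QuotientGroup.mk (a * b) : G ⧸ Z)⁻¹ =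
          (QuotientGroup.mk a : G ⧸ Z) * ((QuotientGroup.mk b : G ⧸ Z) * q.1 *
            (QuotientGroup.mk b : G ⧸ Z)⁻¹) * (QuotientGroup.mk a : G ⧸ Z)⁻¹
        rw [QuotientGroup.mk_mul, mul_inv_rev]
        simp only [mul_assoc]) }
  haveI : Fintype Q := Fintype.ofFinite _
  haveI : Fintype (MulAction.orbitRel.Quotient G 𝒯) := Fintype.ofFinite _
  haveI : Fintype (MulAction.orbitRel.Quotient G Q) := Fintype.ofFinite _
  -- the normalizer of a torus
  let N : 𝒯 → Subgroup G := fun T => normalizer (T.1 : Set G)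
  have hstab : ∀ T : 𝒯, MulAction.stabilizer G T = N T := fun T => by
    ext g
    rw [MulAction.mem_stabilizer_iff, mem_normalizer_iff_map_conj_eq, Subtype.ext_iff]
    rfl
  let e : 𝒯 → ℕ := fun T => T.1.relIndex (N T)
  let b : 𝒯 → ℕ := fun T => Z.relIndex (N T)
  have hE : n * localBound p m B n ≤ E₁ ∧ n.factorial * localBound p m B n ≤ E₁ :=
    ⟨Nat.mul_le_mul_right _ (Nat.le_add_right _ _), Nat.mul_le_mul_right _ (Nat.le_add_left _ _)⟩
  have he : ∀ T : 𝒯, e T ≤ E₁ := by
    intro T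
    obtain ⟨y, hy, hT⟩ := T.2
    refine le_trans ?_ hE.2
    show T.1.relIndex (normalizer (T.1 : Set G)) ≤ _
    rw [hT, mul_comm]
    exact relIndex_torus_normalizer hρ hA hG hn hy
  -- stabilizers of the small cosets
  let s : Q → ℕ := fun q => Z.relIndex (MulAction.stabilizer G q)
  have hZstab : ∀ q : Q, Z ≤ MulAction.stabilizer G q := fun q z hz => by
    rw [MulAction.mem_stabilizer_iff]
    apply Subtype.ext
    show (QuotientGroup.mk z : G ⧸ Z) * q.1 * (QuotientGroup.mk z : G ⧸ Z)⁻¹ = q.1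
    rw [(QuotientGroup.eq_one_iff z).2 hz, one_mul, inv_one, mul_one]
  have hs : ∀ q : Q, s q ≤ E₁ := by
    intro q
    obtain ⟨x, hx, hxq⟩ := q.2
    have hS : ∀ g, g ∈ MulAction.stabilizer G q ↔ x⁻¹ * g * x * g⁻¹ ∈ Z := fun g => by
      rw [MulAction.mem_stabilizer_iff, Subtype.ext_iff]
      change (QuotientGroup.mk g : G ⧸ Z) * q.1 * (QuotientGroup.mk g : G ⧸ Z)⁻¹ = q.1 ↔ _
      rw [← hxq, ← QuotientGroup.mk_inv, ← QuotientGroup.mk_mul, ← QuotientGroup.mk_mul, eq_comm,
        QuotientGroup.eq]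
      simp [mul_assoc]
    have hCS : centralizer ({x} : Set G) ≤ MulAction.stabilizer G q := fun g hg => by
      rw [hS, mul_assoc x⁻¹, mem_centralizer_singleton_iff.1 hg, inv_mul_cancel_left,
        mul_inv_cancel]
      exact one_mem _
    have hZC : Z ≤ centralizer ({x} : Set G) := fun z hz =>
      mem_centralizer_singleton_iff.2 (commute_of_mem_scalars hρ hz x).eq
    show Z.relIndex _ ≤ E₁
    rw [← relIndex_mul_relIndex Z _ _ hZC hCS, mul_comm]
    exact le_trans (Nat.mul_le_mul (relIndex_coset_stabilizer hρ hn hx.1 _ hS)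
      (relIndex_small hρ hA hG hn hx.1 hx.2)) hE.1
  -- the equation
  have hg0 : (0 : ℚ) < Nat.card G := by exact_mod_cast Nat.card_pos
  have hz' : (0 : ℚ) < Nat.card Z := by exact_mod_cast hz0
  have hgZ : (Nat.card G : ℚ) = Nat.card Z * Z.index := by
    exact_mod_cast (Z.card_mul_index).symm
  have hTinv : ∀ (g : G) (T : 𝒯), Nat.card (X (g • T)) = Nat.card (X T) := by
    intro g T
    refine (Nat.card_congr (Equiv.subtypeEquiv (MulAut.conj g).toEquiv fun x => ?_)).symm
    have key : ∀ (a : G) (S : 𝒯) (x : G), x ∈ X S → a * x * a⁻¹ ∈ X (a • S) := by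
      rintro a S x ⟨⟨t, ht, htS, hxt⟩, hxZ⟩
      refine ⟨⟨a * t * a⁻¹, ht.conj hρ a, ⟨t, htS, rfl⟩, ?_⟩, fun h => hxZ ?_⟩
      · exact hxt.map (MulAut.conj a).toMonoidHom
      · have := (scalars_normal hρ).conj_mem _ h a⁻¹
        simpa [mul_assoc] using this
    refine ⟨key g T x, fun h => ?_⟩
    have h' := key g⁻¹ (g • T) _ h
    rw [inv_smul_smul] at h'
    simpa [mul_assoc] using h'
  let ΩT := MulAction.orbitRel.Quotient G 𝒯
  let ΩQ := MulAction.orbitRel.Quotient G Q
  have hterm : ∀ T : 𝒯, ((MulAction.stabilizer G T).index : ℚ) * Nat.card (X T) / Nat.card G =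
      (r T : ℚ) / e T - 1 / b T := by
    intro T
    rw [hXcard, hstab]
    have h1 : (Nat.card G : ℚ) = Nat.card (N T) * (N T).index := by
      exact_mod_cast ((N T).card_mul_index).symm
    have h2 : (Nat.card (N T) : ℚ) = Nat.card T.1 * e T := by
      exact_mod_cast (card_mul_relIndex (le_normalizer (H := T.1))).symm
    have h3 : (Nat.card (N T) : ℚ) = Nat.card Z * b T := by
      exact_mod_cast (card_mul_relIndex ((hZT T).trans le_normalizer)).symm
    have hi : ((N T).index : ℚ) ≠ 0 := by exact_mod_cast index_ne_zero_of_finite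
    have he0 : (e T : ℚ) ≠ 0 := by exact_mod_cast (index_ne_zero_of_finite : e T ≠ 0)
    have hb0 : (b T : ℚ) ≠ 0 := by exact_mod_cast (index_ne_zero_of_finite : b T ≠ 0)
    have ht0 : (Nat.card T.1 : ℚ) ≠ 0 := by exact_mod_cast Nat.card_pos.ne'
    have h4 : (Nat.card T.1 : ℚ) * r T / Nat.card (N T) = (r T : ℚ) / e T := by
      rw [h2]; field_simp
    have h5 : (Nat.card Z : ℚ) / Nat.card (N T) = 1 / b T := by
      rw [h3]; field_simp
    have hN0 : (Nat.card (N T) : ℚ) ≠ 0 := by exact_mod_cast Nat.card_pos.ne'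
    rw [← h4, ← h5, h1]
    field_simp
  have hq : ∀ q : Q, ((MulAction.stabilizer G q).index : ℚ) * Nat.card Z / Nat.card G =
      1 / (s q : ℚ) := by
    intro q
    have h1 : (Nat.card G : ℚ) =
        Nat.card Z * s q * (MulAction.stabilizer G q).index := by
      rw [← (MulAction.stabilizer G q).card_mul_index, ← card_mul_relIndex (hZstab q)]
      push_cast
      rfl
    have hi : ((MulAction.stabilizer G q).index : ℚ) ≠ 0 := by
      exact_mod_cast index_ne_zero_of_finite
    have hs0 : (s q : ℚ) ≠ 0 := by exact_mod_cast (index_ne_zero_of_finite : s q ≠ 0)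
    rw [h1]
    field_simp
  have heq : (1 : ℚ) = 1 / Z.index + ∑ ω : ΩT, ((r ω.out : ℚ) / e ω.out - 1 / b ω.out) +
      ∑ ω : ΩQ, 1 / (s ω.out : ℚ) := by
    have h1 : (Nat.card big : ℚ) = ∑ ω : ΩT,
        ((MulAction.stabilizer G ω.out).index : ℚ) * Nat.card (X ω.out) := by
      rw [hbig, Nat.cast_sum]
      exact orbit_sum (fun T : 𝒯 => (Nat.card (X T) : ℚ)) fun g T => by rw [hTinv]
    have h2 : (Nat.card small : ℚ) = ∑ ω : ΩQ,
        ((MulAction.stabilizer G ω.out).index : ℚ) * Nat.card Z := by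
      rw [hsmall, Nat.cast_mul, ← orbit_sum (fun _ : Q => (Nat.card Z : ℚ)) fun _ _ => rfl,
        Finset.sum_const, Finset.card_univ, ← Nat.card_eq_fintype_card, nsmul_eq_mul, mul_comm]
    have h3 : (Nat.card G : ℚ) = Nat.card Z + Nat.card big + Nat.card small := by
      exact_mod_cast htotal
    have h4 : (1 : ℚ) / Z.index = Nat.card Z / Nat.card G := by
      have : (Z.index : ℚ) ≠ 0 := by exact_mod_cast index_ne_zero_of_finite
      rw [hgZ]; field_simp
    simp only [← hterm, ← hq]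
    rw [h4, ← Finset.sum_div, ← Finset.sum_div, ← h1, ← h2, ← add_div, ← add_div, ← h3,
      div_self hg0.ne']
  -- each torus term is at least `1 / (2 E₁)`
  have hlow : ∀ T : 𝒯, (1 : ℚ) / (2 * E₁) ≤ (r T : ℚ) / e T - 1 / b T := by
    intro T
    have ha : 2 ≤ Z.relIndex T.1 := by
      obtain ⟨y, hy, hT⟩ := T.2
      have h0 : Z.relIndex T.1 ≠ 0 := index_ne_zero_of_finite
      by_contra h
      have h1 : T.1 ≤ Z := relIndex_eq_one.1 (show Z.relIndex T.1 = 1 by omega)
      exact hy.notMem (h1 (hT ▸ hy.mem_torus))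
    have he0 : 0 < e T := Nat.pos_of_ne_zero index_ne_zero_of_finite
    have hbe : 2 * e T ≤ b T := by
      show 2 * e T ≤ Z.relIndex (N T)
      rw [← relIndex_mul_relIndex Z T.1 (N T) (hZT T) le_normalizer]
      exact Nat.mul_le_mul_right _ ha
    have h1 : (1 : ℚ) / e T ≤ (r T : ℚ) / e T :=
      div_le_div_of_nonneg_right (by exact_mod_cast hr T) (by positivity)
    have h2 : (1 : ℚ) / b T ≤ 1 / (2 * e T) :=
      one_div_le_one_div_of_le (by positivity) (by exact_mod_cast hbe)
    have h3 : (1 : ℚ) / (2 * E₁) ≤ 1 / (2 * e T) :=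
      one_div_le_one_div_of_le (by positivity) (by exact_mod_cast Nat.mul_le_mul_left 2 (he T))
    have h4 : (1 : ℚ) / e T = 2 * (1 / (2 * e T)) := by field_simp
    linarith
  have hk : Fintype.card ΩT ≤ 2 * E₁ := by
    rcases Nat.eq_zero_or_pos (Fintype.card ΩT) with h0 | hpos
    · omega
    obtain ⟨ω₀⟩ := Fintype.card_pos_iff.1 hpos
    have hE0 : 0 < E₁ := lt_of_lt_of_le (Nat.pos_of_ne_zero index_ne_zero_of_finite) (he ω₀.out)
    have h1 : (Fintype.card ΩT : ℚ) * (1 / (2 * E₁)) ≤
        ∑ ω : ΩT, ((r ω.out : ℚ) / e ω.out - 1 / b ω.out) := by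
      rw [← nsmul_eq_mul]
      exact Finset.card_nsmul_le_sum _ _ _ fun ω _ => hlow ω.out
    have h2 : (0 : ℚ) ≤ ∑ ω : ΩQ, 1 / (s ω.out : ℚ) := Finset.sum_nonneg fun _ _ => by positivity
    have h3 : (0 : ℚ) ≤ 1 / Z.index := by positivity
    have h4 : (Fintype.card ΩT : ℚ) * (1 / (2 * E₁)) ≤ 1 := by linarith
    rw [mul_one_div, div_le_one (by positivity)] at h4
    exact_mod_cast h4
  have hdiv : ∀ a : ℕ, 0 < a → a ≤ E₁ → ((L / a : ℕ) : ℚ) = (L : ℚ) / a := fun a ha hale =>
    Nat.cast_div (Nat.dvd_factorial ha hale) (by exact_mod_cast ha.ne')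
  let c : ℤ := ∑ ω : ΩT, (r ω.out : ℤ) * ((L / e ω.out : ℕ) : ℤ) +
    ∑ ω : ΩQ, ((L / s ω.out : ℕ) : ℤ) - L
  have hL0 : 0 < L := Nat.factorial_pos _
  have hc : (c : ℚ) / L + 1 / Z.index = ∑ ω : ΩT, (1 : ℚ) / b ω.out := by
    have hc1 : (c : ℚ) / L = ∑ ω : ΩT, (r ω.out : ℚ) / e ω.out + ∑ ω : ΩQ, 1 / (s ω.out : ℚ) - 1 := by
      have e1 : ∀ ω : ΩT, ((r ω.out : ℚ) * ((L / e ω.out : ℕ) : ℚ)) / L =
          (r ω.out : ℚ) / e ω.out := fun ω => by
        rw [hdiv (e ω.out) (Nat.pos_of_ne_zero index_ne_zero_of_finite) (he _)]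
        field_simp
      have e2 : ∀ ω : ΩQ, ((L / s ω.out : ℕ) : ℚ) / L = 1 / (s ω.out : ℚ) := fun ω => by
        rw [hdiv (s ω.out) (Nat.pos_of_ne_zero index_ne_zero_of_finite) (hs _)]
        field_simp
      simp only [c, Int.cast_sub, Int.cast_add, Int.cast_sum, Int.cast_mul, Int.cast_natCast]
      rw [sub_div, add_div, Finset.sum_div, Finset.sum_div, div_self (by exact_mod_cast hL0.ne')]
      simp only [e1, e2]
    rw [Finset.sum_sub_distrib] at heq
    linarith
  have hbpos : ∀ ω ∈ (Finset.univ : Finset ΩT), 0 < b ω.out ∧ b ω.out ≤ Z.index := fun ω _ => by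
    refine ⟨Nat.pos_of_ne_zero index_ne_zero_of_finite, ?_⟩
    show Z.relIndex (N ω.out) ≤ Z.index
    rw [← relIndex_top_right]
    exact relIndex_le_of_le_right le_top index_ne_zero_of_finite
  rcases unit_fraction (2 * E₁) L Finset.univ (fun ω : ΩT => b ω.out) Z.index c
      (by rwa [Finset.card_univ]) hL0 (Nat.pos_of_ne_zero index_ne_zero_of_finite) hbpos hc with
    h | ⟨ω, -, hω⟩
  · exact ⟨Z, fun a ha b _ => (commute_of_mem_scalars hρ ha b).eq, h.trans (le_max_left _ _)⟩
  · obtain ⟨y, hy, hT⟩ := ω.out.2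
    refine ⟨ω.out.1, fun a ha b hb => torus_commute hρ hA hy a (hT ▸ ha) b (hT ▸ hb), ?_⟩
    refine le_trans ?_ ((he ω.out).trans (le_max_right _ _))
    have h1 := relIndex_mul_index ((hZT ω.out).trans (le_normalizer (H := ω.out.1)))
    have hNt : (N ω.out).index = 1 := by
      change b ω.out * (N ω.out).index = Z.index at h1
      rw [show b ω.out = Z.index from hω] at h1
      exact (Nat.mul_eq_left index_ne_zero_of_finite).1 h1
    show ω.out.1.index ≤ ω.out.1.relIndex (N ω.out)
    rw [index_eq_one] at hNt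
    rw [hNt, relIndex_top_right]

end CfsgLib.BrauerFeit
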