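import Cfsg.Agent.BrauerFeit.Count
import Mathlib.FieldTheory.IsAlgClosed.AlgebraicClosure
import Mathlib.LinearAlgebra.Matrix.ToLin
import Mathlib.RepresentationTheory.Basic
import Mathlib.LinearAlgebra.Dimension.StrongRankCondition

/-!
# The theorem of Brauer and Feit

A finite linear group of degree `n` in characteristic `p` whose Sylow `p`-subgroups have order at
most `p ^ m` has a normal abelian subgroup of index bounded in terms of `m` and `n`.
-/

set_option autoImplicit false
set_option linter.unusedSectionVars false
set_option linter.style.haveILetI false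

namespace CfsgLib.BrauerFeit

open Subgroup

universe u v

theorem exists_bound (p : ℕ) [Fact p.Prime] (m : ℕ) : ∀ n : ℕ, ∃ B, Bound.{u, v} p m n B := by
  intro n
  induction n with
  | zero =>
    refine ⟨1, fun G _ _ K _ _ _ V _ _ _ ρ hn hρ _ => ?_⟩
    haveI : Subsingleton V := Module.finrank_zero_iff.1 (Nat.le_zero.1 hn)
    have h : ∀ a b : G, a = b := fun a b => hρ (LinearMap.ext fun x => Subsingleton.elim _ _)
    exact ⟨⊤, fun a _ b _ => h _ _, by rw [Subgroup.index_top]⟩
  | succ n ih =>
    obtain ⟨B, hB⟩ := ih
    refine ⟨countBound p m (redBound p m B) (n + 1), fun G _ _ K _ _ _ V _ _ _ ρ hn hρ hG => ?_⟩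
    exact hasAbelian_of_centBound hρ (fun g hg => hasAbelian_centralizer hB hρ hn hG hg) hG hn

/-- Existence of the bound for matrix groups over an arbitrary field of characteristic `p`. -/
theorem exists_normal_abelian (p : ℕ) [Fact p.Prime] (m n : ℕ) :
    ∃ B : ℕ, ∀ (G : Type u) [Group G] [Finite G] (F : Type v) [Field F] [CharP F p]
      (ρ : Representation F G (Fin n → F)), Function.Injective ρ →
      (Nat.card G).factorization p = m →
      ∃ A : Subgroup G, A.Normal ∧ IsMulCommutative A ∧ A.index ≤ B := by
  classical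
  obtain ⟨B, hB⟩ := exists_bound.{u, v} p m n
  refine ⟨B.factorial, fun G _ _ F _ _ ρ hρ hm => ?_⟩
  have hG : PBound p m G := fun k hk =>
    hm ▸ ((Fact.out : p.Prime).pow_dvd_iff_le_factorization Nat.card_pos.ne').1 hk
  let ι := algebraMap F (AlgebraicClosure F)
  haveI : CharP (AlgebraicClosure F) p := charP_of_injective_ringHom ι.injective p
  let τ : G →* Module.End (AlgebraicClosure F) (Fin n → AlgebraicClosure F) :=
    { toFun := fun g => Matrix.toLin' ((LinearMap.toMatrix' (ρ g)).map ι)
      map_one' := by
        rw [map_one, LinearMap.toMatrix'_one, Matrix.map_one _ (map_zero ι) (map_one ι),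
          Matrix.toLin'_one]
        rfl
      map_mul' := fun a b => by
        rw [map_mul, LinearMap.toMatrix'_mul, Matrix.map_mul, Matrix.toLin'_mul]
        rfl }
  have hτ : Function.Injective τ := fun a b h => hρ (LinearMap.toMatrix'.injective
    (Matrix.map_injective ι.injective (Matrix.toLin'.injective h)))
  obtain ⟨A, hA, hAc, hi⟩ := (hB G (AlgebraicClosure F) (Fin n → AlgebraicClosure F) τ
    (Module.finrank_fin_fun _).le hτ hG).normal
  exact ⟨A, hA, ⟨⟨fun a b => Subtype.ext (hAc a a.2 b b.2)⟩⟩, hi⟩

end CfsgLib.BrauerFeit
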