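import Cfsg.Agent.BrauerFeit.Basic
import Mathlib.LinearAlgebra.Dimension.RankNullity
import Mathlib.LinearAlgebra.FiniteDimensional.Lemmas

/-!
# Passing through an invariant subspace
-/

set_option autoImplicit false
set_option linter.unusedSectionVars false
set_option linter.style.haveILetI false

namespace CfsgLib.BrauerFeit

open Subgroup

universe u v

/-- `B` bounds the index of an abelian subgroup in all groups of degree at most `n`. -/
def Bound (p m n B : ℕ) : Prop :=
  ∀ (G : Type u) [Group G] [Finite G] (K : Type v) [Field K] [CharP K p] [IsAlgClosed K]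
    (V : Type v) [AddCommGroup V] [Module K V] [FiniteDimensional K V]
    (ρ : G →* Module.End K V), Module.finrank K V ≤ n → Function.Injective ρ → PBound p m G →
      HasAbelian B G

/-- The bound one dimension higher for groups with an invariant subspace. -/
def redBound (p m B : ℕ) : ℕ := p ^ m * ((p ^ m).factorial * (B * B))

variable {G : Type u} [Group G] [Finite G] {p m : ℕ} [hp : Fact p.Prime]
  {K : Type v} [Field K] [CharP K p] {V : Type v} [AddCommGroup V] [Module K V]

/-- The action on an invariant subspace. -/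
def subRep (ρ : G →* Module.End K V) (W : Submodule K V) (hW : ∀ g, ∀ w ∈ W, ρ g w ∈ W) :
    G →* Module.End K W where
  toFun g := (ρ g).restrict (hW g)
  map_one' := LinearMap.ext fun x => Subtype.ext (by simp)
  map_mul' a b := LinearMap.ext fun x => Subtype.ext (by simp)

/-- The action on the quotient by an invariant subspace. -/
def quotRep (ρ : G →* Module.End K V) (W : Submodule K V) (hW : ∀ g, ∀ w ∈ W, ρ g w ∈ W) :
    G →* Module.End K (V ⧸ W) where
  toFun g := W.mapQ W (ρ g) fun w hw => hW g w hw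
  map_one' := Submodule.linearMap_qext _ (LinearMap.ext fun x => by simp)
  map_mul' a b := Submodule.linearMap_qext _ (LinearMap.ext fun x => by simp)

theorem isPGroup_ker_inf {ρ : G →* Module.End K V} (hρ : Function.Injective ρ)
    (W : Submodule K V) (hW : ∀ g, ∀ w ∈ W, ρ g w ∈ W) :
    IsPGroup p ((subRep ρ W hW).toHomUnits.ker ⊓ (quotRep ρ W hW).toHomUnits.ker :
      Subgroup G) := by
  intro k
  refine ⟨1, Subtype.ext ?_⟩
  obtain ⟨h1, h2⟩ := k.2
  set N : Module.End K V := ρ k - 1 with hN
  have hNV : ∀ x, N x ∈ W := fun x => by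
    have h := LinearMap.congr_fun (congrArg Units.val (MonoidHom.mem_ker.1 h2)) (Submodule.Quotient.mk x)
    simp only [quotRep, MonoidHom.coe_mk, OneHom.coe_mk, Submodule.mapQ_apply,
      Module.End.one_apply] at h
    simpa [hN] using (Submodule.Quotient.eq W).1 h
  have hNW : ∀ w ∈ W, N w = 0 := fun w hw => by
    have h := congrArg Subtype.val (LinearMap.congr_fun (congrArg Units.val (MonoidHom.mem_ker.1 h1)) ⟨w, hw⟩)
    simp only [subRep, MonoidHom.coe_mk, OneHom.coe_mk, Module.End.one_apply] at h
    simp [hN, h, LinearMap.restrict_apply] at h ⊢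
    rw [h, sub_self]
  have hN2 : N * N = 0 := LinearMap.ext fun x => hNW _ (hNV x)
  have hpow : ∀ j : ℕ, (1 + N) ^ j = 1 + j • N := by
    intro j
    induction j with
    | zero => simp
    | succ j ih =>
      rw [pow_succ, ih, add_mul, one_mul, mul_add, mul_one, smul_mul_assoc, hN2, smul_zero,
        add_zero, add_assoc, succ_nsmul']
  refine hρ ?_
  rw [Subgroup.coe_pow, map_pow, Subgroup.coe_one, map_one, pow_one,
    show ρ k = 1 + N by rw [hN, add_sub_cancel], hpow, ← Nat.cast_smul_eq_nsmul K,
    CharP.cast_eq_zero, zero_smul, add_zero]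

theorem hasAbelian_quotient_ker [IsAlgClosed K] {n B : ℕ} (hB : Bound.{u, v} p m n B)
    (hG : PBound p m G) {U : Type v} [AddCommGroup U] [Module K U] [FiniteDimensional K U]
    (σ : G →* Module.End K U) (hd : Module.finrank K U ≤ n) :
    HasAbelian B (G ⧸ σ.toHomUnits.ker) :=
  hB (G ⧸ σ.toHomUnits.ker) K U ((Units.coeHom _).comp (QuotientGroup.kerLift σ.toHomUnits)) hd
    (Units.val_injective.comp (QuotientGroup.kerLift_injective σ.toHomUnits))
    (hG.quotient σ.toHomUnits.ker)

variable [IsAlgClosed K] [FiniteDimensional K V]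

theorem hasAbelian_of_invariant {n B : ℕ} (hB : Bound.{u, v} p m n B) {ρ : G →* Module.End K V}
    (hρ : Function.Injective ρ) (hdim : Module.finrank K V ≤ n + 1) (hG : PBound p m G)
    (W : Submodule K V) (hW0 : W ≠ ⊥) (hWt : W ≠ ⊤) (hW : ∀ g, ∀ w ∈ W, ρ g w ∈ W) :
    HasAbelian (redBound p m B) G := by
  have hd1 : Module.finrank K W ≤ n := by
    have := Submodule.finrank_lt hWt
    omega
  have hd2 : Module.finrank K (V ⧸ W) ≤ n := by
    have := W.finrank_quotient_add_finrank
    have := Submodule.one_le_finrank_iff.2 hW0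
    omega
  have e1 : HasAbelian B (G ⧸ (subRep ρ W hW).toHomUnits.ker) := hasAbelian_quotient_ker hB hG _ hd1
  have e2 : HasAbelian B (G ⧸ (quotRep ρ W hW).toHomUnits.ker) := hasAbelian_quotient_ker hB hG _ hd2
  exact hasAbelian_of_two_quotients hG (subRep ρ W hW).toHomUnits.ker (quotRep ρ W hW).toHomUnits.ker
    (isPGroup_ker_inf hρ W hW) e1 e2

/-- The centralizer of a non-scalar element preserves one of its eigenspaces. -/
theorem hasAbelian_centralizer {n B : ℕ} (hB : Bound.{u, v} p m n B) {ρ : G →* Module.End K V}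
    (hρ : Function.Injective ρ) (hdim : Module.finrank K V ≤ n + 1) (hG : PBound p m G) {g : G}
    (hg : g ∉ scalars ρ) :
    ∃ A : Subgroup G, A ≤ Subgroup.centralizer ({g} : Set G) ∧ (∀ a ∈ A, ∀ b ∈ A, a * b = b * a) ∧
      A.relIndex (Subgroup.centralizer ({g} : Set G)) ≤ redBound p m B := by
  haveI : Nontrivial V := by
    rcases subsingleton_or_nontrivial V with hV | hV
    · exact absurd ⟨1, LinearMap.ext fun x => Subsingleton.elim _ _⟩ hg
    · exact hV
  obtain ⟨c, hc⟩ := Module.End.exists_eigenvalue (ρ g)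
  set W := Module.End.eigenspace (ρ g) c
  have hW0 : W ≠ ⊥ := hc
  have hWt : W ≠ ⊤ := fun h => hg ⟨c, LinearMap.ext fun x => by
    simpa using Module.End.mem_eigenspace_iff.1 (h ▸ Submodule.mem_top : x ∈ W)⟩
  set C := Subgroup.centralizer ({g} : Set G)
  have hW : ∀ h : C, ∀ w ∈ W, (ρ.comp C.subtype) h w ∈ W := fun h w hw => by
    refine Module.End.mem_eigenspace_iff.2 ?_
    have hc' : ρ g * ρ (h : G) = ρ (h : G) * ρ g := by
      rw [← map_mul, ← map_mul, Subgroup.mem_centralizer_singleton_iff.1 h.2]
    change (ρ g * ρ (h : G)) w = c • ρ (h : G) w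
    rw [hc', Module.End.mul_apply, Module.End.mem_eigenspace_iff.1 hw, map_smul]
  obtain ⟨A, hA, hi⟩ := hasAbelian_of_invariant hB (ρ := ρ.comp C.subtype)
    (hρ.comp C.subtype_injective) hdim (hG.subgroup C) W hW0 hWt hW
  refine ⟨A.map C.subtype, map_subtype_le A, ?_, ?_⟩
  · rintro _ ⟨a, ha, rfl⟩ _ ⟨b, hb, rfl⟩
    exact congrArg Subtype.val (hA a ha b hb)
  · rwa [Subgroup.relIndex, Subgroup.subgroupOf, Subgroup.comap_map_eq_self_of_injective
      C.subtype_injective]

end CfsgLib.BrauerFeit
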