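import Cfsg.Agent.BrauerFeit.Reducible
import Mathlib.LinearAlgebra.FiniteDimensional.Lemmas
import Mathlib.LinearAlgebra.Dimension.Constructions

/-!
# Stable elements

An element is stable when its order is prime to `p`, its `M`-th power is not scalar and that power
has the same centralizer.  Commuting is an equivalence relation on stable elements, every element
has a bounded power which is scalar or stable, and the abelian group `T` of a class is almost
self-normalizing.
-/

set_option autoImplicit false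
set_option linter.unusedSectionVars false
set_option linter.style.haveILetI false

namespace CfsgLib.BrauerFeit

open Subgroup

universe u v

variable {G : Type u} [Group G] [Finite G] {p m : ℕ} [hp : Fact p.Prime]
  {K : Type v} [Field K] [CharP K p] {V : Type v} [AddCommGroup V] [Module K V]

/-- Every centralizer of a non-scalar element has an abelian subgroup of index at most `B`. -/
def CentBound (ρ : G →* Module.End K V) (B : ℕ) : Prop :=
  ∀ g : G, g ∉ scalars ρ → ∃ A : Subgroup G, A ≤ centralizer ({g} : Set G) ∧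
    (∀ a ∈ A, ∀ b ∈ A, a * b = b * a) ∧ A.relIndex (centralizer ({g} : Set G)) ≤ B

/-- The exponent used to define stable elements. -/
def powExp (p m B : ℕ) : ℕ := (B.factorial).factorial * p ^ m

theorem powExp_pos (B : ℕ) : 0 < powExp p m B :=
  Nat.mul_pos (Nat.factorial_pos _) (pow_pos hp.out.pos m)

variable {ρ : G →* Module.End K V} {B : ℕ}

theorem CentBound.commute_pow (hA : CentBound ρ B) {g h k : G} (hg : g ∉ scalars ρ)
    (hh : Commute h g) (hk : Commute k g) : Commute (h ^ powExp p m B) (k ^ powExp p m B) := by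
  obtain ⟨A, hAle, hAc, hAi⟩ := hA g hg
  set C := centralizer ({g} : Set G)
  have h' : HasAbelian B C := ⟨A.subgroupOf C, fun a ha b hb =>
    Subtype.ext (hAc _ (mem_subgroupOf.1 ha) _ (mem_subgroupOf.1 hb)), hAi⟩
  obtain ⟨N, hN, hNc, hNi⟩ := h'.normal
  haveI := hN
  have hmem : ∀ x : C, x ^ powExp p m B ∈ N := fun x => by
    obtain ⟨q, hq⟩ := (Nat.dvd_factorial (Nat.pos_of_ne_zero index_ne_zero_of_finite) hNi).mul_right
      (p ^ m)
    show x ^ powExp p m B ∈ N
    rw [powExp, hq, pow_mul]
    exact pow_mem (Subgroup.pow_index_mem N x) q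
  exact congrArg Subtype.val (hNc _ (hmem ⟨h, mem_centralizer_singleton_iff.2 hh.eq⟩) _
    (hmem ⟨k, mem_centralizer_singleton_iff.2 hk.eq⟩))

/-- Stable elements. -/
def Stable (p : ℕ) (ρ : G →* Module.End K V) (M : ℕ) (y : G) : Prop :=
  ¬ p ∣ orderOf y ∧ y ^ M ∉ scalars ρ ∧ ∀ g : G, Commute g (y ^ M) → Commute g y

variable {M : ℕ}

theorem Stable.notMem {y : G} (hy : Stable p ρ M y) : y ∉ scalars ρ :=
  fun h => hy.2.1 (pow_mem h M)

theorem Stable.commute_iff {y : G} (hy : Stable p ρ M y) (g : G) :
    Commute g (y ^ M) ↔ Commute g y := ⟨hy.2.2 g, fun h => h.pow_right M⟩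

theorem Stable.conj (hρ : Function.Injective ρ) {y : G} (hy : Stable p ρ M y) (a : G) :
    Stable p ρ M (a * y * a⁻¹) := by
  haveI := scalars_normal hρ
  refine ⟨?_, ?_, fun g hg => ?_⟩
  · rw [← MulAut.conj_apply, MulEquiv.orderOf_eq]; exact hy.1
  · rw [conj_pow]
    intro h
    refine hy.2.1 ?_
    have := (scalars_normal hρ).conj_mem _ h a⁻¹
    simpa [mul_assoc] using this
  · rw [conj_pow] at hg
    have h1 := hy.2.2 (a⁻¹ * g * a) (by
      have := hg.map (MulAut.conj a⁻¹).toMonoidHom
      simpa [mul_assoc] using this)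
    have := h1.map (MulAut.conj a).toMonoidHom
    simpa [mul_assoc] using this

/-- Two stable elements centralizing a non-scalar element commute. -/
theorem CentBound.commute_of_stable (hA : CentBound ρ B) {x s t : G} (hx : x ∉ scalars ρ)
    (hs : Stable p ρ (powExp p m B) s) (ht : Stable p ρ (powExp p m B) t)
    (hsx : Commute s x) (htx : Commute t x) : Commute s t := by
  have h1 : Commute (t ^ powExp p m B) (s ^ powExp p m B) := hA.commute_pow hx htx hsx
  exact (ht.2.2 s ((hs.2.2 _ h1).symm))

/-- The commutant of an endomorphism. -/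
def commutant (a : Module.End K V) : Submodule K (Module.End K V) :=
  LinearMap.ker (LinearMap.mulLeft K a - LinearMap.mulRight K a)

theorem mem_commutant {a f : Module.End K V} : f ∈ commutant a ↔ Commute f a := by
  rw [commutant, LinearMap.mem_ker, LinearMap.sub_apply, LinearMap.mulLeft_apply,
    LinearMap.mulRight_apply, sub_eq_zero]
  exact ⟨fun h => h.symm, fun h => h.eq.symm⟩

/-- The power after which the centralizer has stabilized. -/
def chainExp (M n : ℕ) : ℕ := M ^ (n * n + 3)

theorem pow_scalar_or_stable [FiniteDimensional K V] (hρ : Function.Injective ρ)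
    (hG : PBound p m G) (hpm : p ^ m ∣ M) {n : ℕ} (hn : Module.finrank K V ≤ n) (x : G) :
    x ^ chainExp M n ∈ scalars ρ ∨
      ∃ i, i ≤ n * n + 1 ∧ 1 ≤ i ∧ Stable p ρ M (x ^ M ^ i) := by
  classical
  let f : ℕ → ℕ := fun i => Module.finrank K (commutant (ρ (x ^ M ^ (i + 1))))
  have hmono : ∀ i, commutant (ρ (x ^ M ^ (i + 1))) ≤ commutant (ρ (x ^ M ^ (i + 1 + 1))) := by
    intro i g hg
    rw [mem_commutant] at hg ⊢
    rw [pow_succ, pow_mul, map_pow]
    exact hg.pow_right M
  obtain ⟨i, hi, heq⟩ : ∃ i, i ≤ n * n ∧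
      commutant (ρ (x ^ M ^ (i + 1))) = commutant (ρ (x ^ M ^ (i + 1 + 1))) := by
    by_contra hcon
    push Not at hcon
    have hlow : ∀ i, i ≤ n * n + 1 → i ≤ f i := by
      intro i
      induction i with
      | zero => intro _; exact Nat.zero_le _
      | succ i ih =>
        intro hi
        have h1 : f i < f (i + 1) :=
          Submodule.finrank_lt_finrank_of_lt (lt_of_le_of_ne (hmono i) (hcon i (by omega)))
        have := ih (by omega)
        omega
    have h2 : f (n * n + 1) ≤ n * n := by
      refine (Submodule.finrank_le _).trans ?_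
      rw [Module.finrank_linearMap]
      exact Nat.mul_le_mul hn hn
    have := hlow _ le_rfl
    omega
  by_cases hs : (x ^ M ^ (i + 1)) ^ M ∈ scalars ρ
  · left
    obtain ⟨d, hd⟩ : ∃ d, n * n + 3 = i + 1 + 1 + d := ⟨n * n + 3 - (i + 1 + 1), by omega⟩
    rw [chainExp, hd, pow_add, pow_mul, pow_succ, pow_mul]
    exact pow_mem hs _
  refine Or.inr ⟨i + 1, by omega, by omega, ?_, hs, fun g hg => ?_⟩
  · obtain ⟨k, r, hr, hkr⟩ :=
      Nat.exists_eq_pow_mul_and_not_dvd (orderOf_pos x).ne' p hp.out.ne_one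
    have hk : k ≤ m := hG k ((Dvd.intro r hkr.symm).trans (orderOf_dvd_natCard _))
    intro hd
    refine hr (hd.trans (orderOf_dvd_of_pow_eq_one ?_))
    rw [← pow_mul]
    refine orderOf_dvd_iff_pow_eq_one.1 ?_
    rw [hkr]
    exact Nat.mul_dvd_mul_right ((pow_dvd_pow p hk).trans
      (hpm.trans (dvd_pow_self M (Nat.succ_ne_zero i)))) r
  · have h1 : ρ g ∈ commutant (ρ (x ^ M ^ (i + 1 + 1))) := by
      rw [mem_commutant, pow_succ, pow_mul]
      exact hg.map ρ
    rw [← heq, mem_commutant] at h1
    exact hρ (by rw [map_mul, map_mul, h1.eq])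

/-- The abelian subgroup of the class of a stable element. -/
def torus (p : ℕ) (ρ : G →* Module.End K V) (M : ℕ) (y : G) : Subgroup G :=
  closure ({s | Stable p ρ M s ∧ Commute s y} ∪ (scalars ρ : Set G))

theorem scalars_le_torus (y : G) : scalars ρ ≤ torus p ρ M y :=
  fun _ hz => subset_closure (Or.inr hz)

theorem Stable.mem_torus {y : G} (hy : Stable p ρ M y) : y ∈ torus p ρ M y :=
  subset_closure (Or.inl ⟨hy, Commute.refl y⟩)

variable (hρ : Function.Injective ρ) (hA : CentBound ρ B)
include hρ hA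

theorem torus_commute {y : G} (hy : Stable p ρ (powExp p m B) y) :
    ∀ a ∈ torus p ρ (powExp p m B) y, ∀ b ∈ torus p ρ (powExp p m B) y, a * b = b * a := by
  have hgen : ∀ a ∈ ({s | Stable p ρ (powExp p m B) s ∧ Commute s y} ∪ (scalars ρ : Set G)),
      ∀ b ∈ ({s | Stable p ρ (powExp p m B) s ∧ Commute s y} ∪ (scalars ρ : Set G)),
        a * b = b * a := by
    rintro a (⟨ha, hay⟩ | ha) b (⟨hb, hby⟩ | hb)
    · exact (hA.commute_of_stable hy.notMem ha hb hay hby).eq
    · exact (commute_of_mem_scalars hρ hb a).symm.eq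
    · exact (commute_of_mem_scalars hρ ha b).eq
    · exact (commute_of_mem_scalars hρ ha b).eq
  intro a ha b hb
  have h1 : torus p ρ (powExp p m B) y ≤ centralizer
      ({s | Stable p ρ (powExp p m B) s ∧ Commute s y} ∪ (scalars ρ : Set G)) :=
    (closure_le _).2 fun c hc => mem_centralizer_iff.2 fun d hd => hgen d hd c hc
  have h2 : torus p ρ (powExp p m B) y ≤ centralizer
      ((torus p ρ (powExp p m B) y : Subgroup G) : Set G) :=
    (closure_le _).2 fun c hc => mem_centralizer_iff.2 fun d hd =>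
      (mem_centralizer_iff.1 (h1 hd) c hc).symm
  exact (mem_centralizer_iff.1 (h2 hb) a ha)

theorem Stable.mem_torus_iff {s y : G} (hs : Stable p ρ (powExp p m B) s)
    (hy : Stable p ρ (powExp p m B) y) : s ∈ torus p ρ (powExp p m B) y ↔ Commute s y :=
  ⟨fun h => torus_commute hρ hA hy s h y hy.mem_torus, fun h => subset_closure (Or.inl ⟨hs, h⟩)⟩

theorem torus_eq {s y : G} (hs : Stable p ρ (powExp p m B) s)
    (hy : Stable p ρ (powExp p m B) y) (h : Commute s y) :
    torus p ρ (powExp p m B) s = torus p ρ (powExp p m B) y := by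
  unfold torus
  congr 2
  ext t
  exact and_congr_right fun ht => ⟨fun h1 => hA.commute_of_stable hs.notMem ht hy h1 h.symm,
    fun h1 => hA.commute_of_stable hy.notMem ht hs h1 h⟩

theorem map_conj_torus {y : G} (hy : Stable p ρ (powExp p m B) y) (a : G) :
    (torus p ρ (powExp p m B) y).map (MulAut.conj a).toMonoidHom =
      torus p ρ (powExp p m B) (a * y * a⁻¹) := by
  haveI := scalars_normal hρ
  have key : ∀ (z b : G), (torus p ρ (powExp p m B) z).map (MulAut.conj b).toMonoidHom ≤
      torus p ρ (powExp p m B) (b * z * b⁻¹) := by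
    intro z b
    rw [torus, MonoidHom.map_closure, closure_le]
    rintro _ ⟨t, (⟨ht, htz⟩ | ht), rfl⟩
    · refine subset_closure (Or.inl ⟨ht.conj hρ b, ?_⟩)
      exact htz.map (MulAut.conj b).toMonoidHom
    · exact scalars_le_torus _ ((scalars_normal hρ).conj_mem t ht b)
  refine le_antisymm (key y a) fun t ht => ⟨a⁻¹ * t * a, ?_, ?_⟩
  · have h := key (a * y * a⁻¹) a⁻¹ ⟨t, ht, rfl⟩
    simpa [mul_assoc] using h
  · simp [mul_assoc]

theorem not_dvd_card_torus {y : G} (hy : Stable p ρ (powExp p m B) y) :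
    ¬ p ∣ Nat.card (torus p ρ (powExp p m B) y) := by
  intro hd
  obtain ⟨⟨t, ht⟩, hto⟩ := exists_prime_orderOf_dvd_card' p hd
  rw [Subgroup.orderOf_mk] at hto
  have h : ¬ p ∣ orderOf t := by
    clear hto
    induction ht using closure_induction with
    | mem s hs =>
      rcases hs with ⟨hs, -⟩ | hs
      · exact hs.1
      · exact fun hd => not_dvd_card_scalars hρ
          (hd.trans (Subgroup.orderOf_dvd_natCard _ hs))
    | one => rw [orderOf_one]; exact hp.out.not_dvd_one
    | mul a b ha hb iha ihb =>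
      intro hd
      have hc : Commute a b := torus_commute hρ hA hy a ha b hb
      rcases (hp.out.dvd_mul).1 (hd.trans (hc.orderOf_mul_dvd_lcm.trans (Nat.lcm_dvd_mul _ _)))
        with h | h
      · exact iha h
      · exact ihb h
    | inv a _ iha => rwa [orderOf_inv]
  exact h (hto ▸ dvd_rfl)

/-- The index of the torus in its normalizer is bounded. -/
theorem relIndex_torus_normalizer [IsAlgClosed K] [FiniteDimensional K V] (hG : PBound p m G)
    {n : ℕ} (hn : Module.finrank K V ≤ n) {y : G} (hy : Stable p ρ (powExp p m B) y) :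
    (torus p ρ (powExp p m B) y).relIndex
        (normalizer ((torus p ρ (powExp p m B) y : Subgroup G) : Set G)) ≤
      B * (p ^ m * chainExp (powExp p m B) n ^ n) * n.factorial := by
  classical
  set M := powExp p m B with hMdef
  set T := torus p ρ M y with hTdef
  set E := chainExp M n with hEdef
  have hTc := torus_commute hρ hA hy
  have hM0 : 0 < M := powExp_pos B
  have hE0 : 0 < E := pow_pos hM0 _
  -- the centralizer of the torus
  set C := centralizer (T : Set G)
  have hTC : T ≤ C := fun a ha => mem_centralizer_iff.2 fun b hb => hTc b hb a ha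
  have hCy : C ≤ centralizer ({y} : Set G) := fun a ha => mem_centralizer_singleton_iff.2
    (mem_centralizer_iff.1 ha y hy.mem_torus).symm
  obtain ⟨A, hAle, hAc, hAi⟩ := hA y hy.notMem
  have hTA : T.relIndex A ≤ p ^ m * E ^ n := by
    refine (relIndex_le_of_pow_mem hρ hG A T hAc hE0 fun a ha => ?_).trans
      (Nat.mul_le_mul_left _ (Nat.pow_le_pow_right hE0 hn))
    rcases pow_scalar_or_stable hρ hG (dvd_mul_left (p ^ m) _) hn a with h | ⟨i, hi, -, hst⟩
    · exact scalars_le_torus _ h
    · obtain ⟨d, hd⟩ : ∃ d, n * n + 3 = i + d := ⟨n * n + 3 - i, by omega⟩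
      rw [hEdef, chainExp, hd, pow_add, pow_mul]
      refine pow_mem ((Stable.mem_torus_iff hρ hA hst hy).2 ?_) _
      exact (Commute.pow_left (mem_centralizer_singleton_iff.1 (hAle ha)) _)
  have hTCy : T.relIndex (centralizer ({y} : Set G)) ≤ B * (p ^ m * E ^ n) := by
    have h1 : (T ⊓ A).relIndex A * A.relIndex (centralizer ({y} : Set G)) =
        (T ⊓ A).relIndex (centralizer ({y} : Set G)) :=
      relIndex_mul_relIndex _ _ _ inf_le_right hAle
    rw [inf_relIndex_right] at h1
    refine (Nat.le_of_dvd (Nat.pos_of_ne_zero ?_)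
      (relIndex_dvd_of_le_left _ (inf_le_left : T ⊓ A ≤ T))).trans ?_
    · exact index_ne_zero_of_finite
    · rw [← h1, mul_comm B]
      exact Nat.mul_le_mul hTA hAi
  have hTCle : T.relIndex C ≤ B * (p ^ m * E ^ n) :=
    (relIndex_le_of_le_right hCy index_ne_zero_of_finite).trans hTCy
  -- the normalizer permutes the weights
  set N := normalizer (T : Set G)
  letI : CommGroup T :=
    { (inferInstance : Group T) with mul_comm := fun a b => Subtype.ext (hTc a a.2 b b.2) }
  let σ : T →* Module.End K V := ρ.comp T.subtype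
  let W := {χ : T → K | CharOrbit.IsWeight σ χ}
  have hWfin : W.Finite := by
    by_contra hinf
    obtain ⟨S, hSW, hS⟩ := Set.Infinite.exists_subset_card_eq hinf (Module.finrank K V + 1)
    have := CharOrbit.card_weights_le σ S fun χ hχ => hSW hχ
    omega
  haveI : Finite W := hWfin.to_subtype
  have hWc : Nat.card W ≤ n := by
    rw [Nat.card_coe_set_eq, Set.ncard_eq_toFinset_card _ hWfin]
    exact (CharOrbit.card_weights_le σ hWfin.toFinset fun χ hχ =>
      hWfin.mem_toFinset.1 hχ).trans hn
  have hmem : ∀ (g : N) (t : T), (g : G)⁻¹ * t * g ∈ T := fun g t =>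
    ((mem_normalizer_iff''.1 g.2) t).1 t.2
  have hweight : ∀ (g : N) (χ : T → K), χ ∈ W → (fun t : T => χ ⟨_, hmem g t⟩) ∈ W := by
    rintro g χ ⟨v, hv0, hv⟩
    refine ⟨ρ g v, fun h => hv0 ?_, fun t => ?_⟩
    · have := congrArg (ρ (g : G)⁻¹) h
      rwa [map_zero, ← Module.End.mul_apply, ← map_mul, inv_mul_cancel, map_one,
        Module.End.one_apply] at this
    · have h := hv ⟨_, hmem g t⟩
      simp only [σ, MonoidHom.comp_apply, Subgroup.coe_subtype] at h ⊢
      rw [← map_smul, ← h, ← Module.End.mul_apply, ← Module.End.mul_apply, ← map_mul, ← map_mul]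
      group
  let act : MulAction N W :=
    { smul := fun g χ => ⟨fun t => χ.1 ⟨_, hmem g t⟩, hweight g _ χ.2⟩
      one_smul := fun χ => Subtype.ext (funext fun t => congrArg χ.1 (Subtype.ext (by simp)))
      mul_smul := fun a b χ => Subtype.ext (funext fun t =>
        congrArg χ.1 (Subtype.ext (by simp [mul_assoc]))) }
  let π : N →* Equiv.Perm W := @MulAction.toPermHom N W _ act
  have hker : π.ker ≤ C.subgroupOf N := fun g hg => by
    rw [mem_subgroupOf, mem_centralizer_iff]
    intro t ht
    by_contra hne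
    have h1 : σ (⟨t, ht⟩⁻¹ * ⟨_, hmem g ⟨t, ht⟩⟩) ≠ 1 := fun h => by
      rw [← map_one σ] at h
      have h2 := inv_mul_eq_one.1 (Subtype.ext (hρ h) : _ = (1 : T))
      have h3 : t = (g : G)⁻¹ * t * g := congrArg Subtype.val h2
      exact hne (by rw [mul_assoc, eq_inv_mul_iff_mul_eq] at h3; exact h3.symm)
    have hne0 : (Nat.card T : K) ≠ 0 := by
      rw [Ne, CharP.cast_eq_zero_iff K p]
      exact not_dvd_card_torus hρ hA hy
    obtain ⟨χ, hχ, hχ1⟩ := CharOrbit.exists_weight hne0 σ h1
    have h2 : χ ⟨_, hmem g ⟨t, ht⟩⟩ = χ ⟨t, ht⟩ :=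
      congrFun (congrArg Subtype.val (DFunLike.congr_fun (MonoidHom.mem_ker.1 hg : π g = 1) (⟨χ, hχ⟩ : W))) ⟨t, ht⟩
    exact hχ1 (by rw [CharOrbit.map_mul_of_isWeight hχ, h2, ← CharOrbit.map_mul_of_isWeight hχ,
      inv_mul_cancel, CharOrbit.map_one_of_isWeight hχ])
  have hCN : C.relIndex N ≤ n.factorial := by
    refine (Nat.le_of_dvd (Nat.pos_of_ne_zero index_ne_zero_of_finite)
      (index_dvd_of_le hker)).trans ?_
    rw [index_ker]
    refine (card_le_card_group _).trans ?_
    rw [Nat.card_perm]
    exact Nat.factorial_le hWc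
  have h1 : T.relIndex (C ⊓ N) * (C ⊓ N).relIndex N = T.relIndex N :=
    relIndex_mul_relIndex _ _ _ (le_inf hTC le_normalizer) inf_le_right
  rw [inf_relIndex_right] at h1
  rw [← h1]
  refine Nat.mul_le_mul ((relIndex_le_of_le_right inf_le_left index_ne_zero_of_finite).trans
    hTCle) hCN

end CfsgLib.BrauerFeit
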